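import Mathlib.Algebra.Group.Defs
import Mathlib.Algebra.Group.Prod
import Mathlib.Algebra.Group.Hom.Defs
import Mathlib.Tactic.Abel

/-! The abelian extension attached to a symmetric cocycle. -/

universe u v

namespace Groth.Agent.SGA7Lib.Cocycle

variable {P : Type u} {Q : Type v} [AddCommGroup P] [AddCommGroup Q]

/-- the underlying set of the extension -/
def Ext (_c : P → P → Q) : Type (max u v) := P × Q

theorem exists_extension (c : P → P → Q) (hassoc : ∀ p q r, c (p + q) r + c p q = c p (q + r) + c q r)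
    (hsymm : ∀ p q, c p q = c q p) :
    ∃ (E : Type (max u v)) (_ : AddCommGroup E) (s : P → E) (j : Q →+ E), Function.Injective j ∧
      ∀ p q, s (p + q) - s p - s q = -j (c p q) := by
  have h0 : ∀ p, c p 0 = c 0 0 := fun p => by
    have := hassoc p 0 0
    simp at this
    exact this
  let mul : P × Q → P × Q → P × Q := fun a b => (a.1 + b.1, a.2 + b.2 + c a.1 b.1)
  let _ : Add (Ext c) := ⟨mul⟩
  let _ : Zero (Ext c) := ⟨((0 : P), -c 0 0)⟩
  let _ : Neg (Ext c) := ⟨fun a => (-a.1, -a.2 - c a.1 (-a.1) - c 0 0)⟩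
  let inst : AddCommGroup (Ext c) :=
    { add := mul
      zero := ((0 : P), -c 0 0)
      neg := fun a => (-a.1, -a.2 - c a.1 (-a.1) - c 0 0)
      add_assoc := fun a b d => Prod.ext (add_assoc _ _ _) (by
        show a.2 + b.2 + c a.1 b.1 + d.2 + c (a.1 + b.1) d.1 =
          a.2 + (b.2 + d.2 + c b.1 d.1) + c a.1 (b.1 + d.1)
        have h := hassoc a.1 b.1 d.1
        rw [eq_sub_of_add_eq h]
        abel)
      zero_add := fun a => Prod.ext (zero_add _) (by
        show -c 0 0 + a.2 + c 0 a.1 = a.2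
        rw [hsymm 0 a.1, h0 a.1]; abel)
      add_zero := fun a => Prod.ext (add_zero _) (by
        show a.2 + -c 0 0 + c a.1 0 = a.2
        rw [h0 a.1]; abel)
      neg_add_cancel := fun a => Prod.ext (neg_add_cancel _) (by
        show -a.2 - c a.1 (-a.1) - c 0 0 + a.2 + c (-a.1) a.1 = -c 0 0
        rw [hsymm (-a.1)]; abel)
      add_comm := fun a b => Prod.ext (add_comm _ _) (by
        show a.2 + b.2 + c a.1 b.1 = b.2 + a.2 + c b.1 a.1
        rw [hsymm a.1]; abel)
      nsmul := nsmulRec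
      zsmul := zsmulRec }
  let j : Q →+ Ext c :=
    { toFun := fun q => ((0 : P), q - c 0 0)
      map_zero' := Prod.ext rfl (zero_sub _)
      map_add' := fun q r => Prod.ext (add_zero (0 : P)).symm (by
        show q + r - c 0 0 = q - c 0 0 + (r - c 0 0) + c 0 0
        abel) }
  refine ⟨Ext c, inst, fun p => (p, 0), j, fun q r h => sub_left_inj.mp (congrArg Prod.snd h),
    fun p q => ?_⟩
  rw [sub_sub, sub_eq_iff_eq_add, eq_neg_add_iff_add_eq]
  refine Prod.ext (zero_add (p + q)) ?_
  show c p q - c 0 0 + 0 + c 0 (p + q) = 0 + 0 + c p q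
  rw [hsymm 0 (p + q), h0 (p + q)]
  abel

end Groth.Agent.SGA7Lib.Cocycle
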